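import Groth.Agent.Lib.Helper5.AL.AL8
import Groth.Agent.Lib.Helper5.FSm.Main2038
import Groth.Agent.Lib.Helper5.CA.NG35
import Groth.Agent.Lib.Helper5.CA.GR2
import Groth.Agent.Lib.Helper1.FlatDim
import Groth.Agent.Lib.Helper1.RegFlat
import Groth.Agent.Lib.Helper1.RegLoc

universe u

namespace H5.SM

open IsLocalRing Groth.Agent.H1.FlatDim

section ring

variable (A B : Type u) [CommRing A] [CommRing B] [IsLocalRing A] [IsLocalRing B]
  [IsNoetherianRing A] [IsNoetherianRing B] [Algebra A B] [IsLocalHom (algebraMap A B)]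
  [Algebra.FormallySmooth A B]

theorem flat_of_formallySmooth_local : Module.Flat A B := by
  have h := Groth.Agent.H5.GR.isAdicFormallySmooth_of_formallySmooth A B (maximalIdeal B)
  exact (Groth.Agent.H5.FSm.main2038.2 h).1

theorem isRegularLocalRing_fiber :
    IsRegularLocalRing (B ⧸ (maximalIdeal A).map (algebraMap A B)) := by
  have h := Groth.Agent.H5.GR.isAdicFormallySmooth_of_formallySmooth A B (maximalIdeal B)
  have h2 := H5.NG.isAdicFormallySmooth_quotient_map (maximalIdeal A) (maximalIdeal B) h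
  rw [← maximalIdeal_fiber A B] at h2
  letI : Field (A ⧸ maximalIdeal A) := Ideal.Quotient.field _
  exact Groth.Agent.H5.GR.isRegularLocalRing_of_isAdicFormallySmooth (A ⧸ maximalIdeal A) _ h2

theorem ringKrullDim_eq :
    ringKrullDim B = ringKrullDim A +
      ringKrullDim (B ⧸ (maximalIdeal A).map (algebraMap A B)) := by
  haveI := flat_of_formallySmooth_local A B
  exact ringKrullDim_eq_add_fiber_of_flat A B

end ring

end H5.SM

namespace H5.SM

open IsLocalRing Groth.Agent.H1.FlatDim AlgebraicGeometry CategoryTheory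

theorem isRegularLocalRing_iff (A B : Type u) [CommRing A] [CommRing B] [IsLocalRing A]
    [IsLocalRing B] [IsNoetherianRing A] [IsNoetherianRing B] [Algebra A B]
    [IsLocalHom (algebraMap A B)] [Algebra.FormallySmooth A B] :
    IsRegularLocalRing B ↔ IsRegularLocalRing A := by
  haveI := flat_of_formallySmooth_local A B
  constructor
  · intro _
    exact Groth.Agent.H1.Reg.isRegularLocalRing_of_flat A B
  · intro _
    haveI := isRegularLocalRing_fiber A B
    exact Groth.Agent.H1.RegFlat.isRegularLocalRing_of_flat_of_fiber A B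

/-- ring-hom form of the package. -/
theorem ringHom_package {A B : Type u} [CommRing A] [CommRing B] [IsLocalRing A]
    [IsLocalRing B] [IsNoetherianRing A] (ψ : A →+* B) [IsLocalHom ψ] (hft : ψ.EssFiniteType)
    (hfs : ψ.FormallySmooth) :
    (ringKrullDim B = ringKrullDim A + ringKrullDim (B ⧸ (maximalIdeal A).map ψ)) ∧
    (IsRegularLocalRing B ↔ IsRegularLocalRing A) := by
  letI := ψ.toAlgebra
  haveI : IsLocalHom (algebraMap A B) := ‹IsLocalHom ψ›
  haveI : Algebra.EssFiniteType A B := hft
  haveI : IsNoetherianRing B := Algebra.EssFiniteType.isNoetherianRing A B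
  haveI : Algebra.FormallySmooth A B := hfs
  exact ⟨ringKrullDim_eq A B, isRegularLocalRing_iff A B⟩

variable {X Y : Scheme.{u}}

theorem stalk_package (f : X ⟶ Y) [IsLocallyNoetherian Y] [LocallyOfFiniteType f] (x : X)
    (hx : ∃ U : X.Opens, x ∈ U ∧ Smooth (U.ι ≫ f)) :
    (ringKrullDim ↑(X.presheaf.stalk x) =
      ringKrullDim ↑(Y.presheaf.stalk (f.base x)) +
        ringKrullDim (↑(X.presheaf.stalk x) ⧸
          (IsLocalRing.maximalIdeal ↑(Y.presheaf.stalk (f.base x))).map (f.stalkMap x).hom)) ∧
    (IsRegularLocalRing ↑(X.presheaf.stalk x) ↔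
      IsRegularLocalRing ↑(Y.presheaf.stalk (f.base x))) :=
  ringHom_package (f.stalkMap x).hom (LocallyOfFiniteType.stalkMap f x)
    ((H5.AL.exists_smooth_nhd_iff f x).1 hx)

end H5.SM
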